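import Mathlib.FieldTheory.Minpoly.Field
import Mathlib.FieldTheory.Separable
import Mathlib.FieldTheory.IsAlgClosed.AlgebraicClosure
import Mathlib.LinearAlgebra.Dimension.Free
import Mathlib.LinearAlgebra.FiniteDimensional.Lemmas
import Mathlib.FieldTheory.Finite.Basic
import Mathlib.Algebra.CharP.Lemmas
import Mathlib.Algebra.Central.Basic
import Mathlib.RingTheory.Polynomial.Basic
import Mathlib.RingTheory.PowerBasis
import Mathlib.Algebra.Algebra.Subalgebra.Lattice

/-!
# Division algebras of prime degree in characteristic `p`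
-/

set_option autoImplicit false
open Polynomial Module

namespace Groth.Agent.DivAlgP96

universe u v w

section

variable {K : Type u} [Field K] {A : Type v} [DivisionRing A] [Algebra K A]
  [FiniteDimensional K A]

omit [FiniteDimensional K A] in
theorem finrank_dvd_of_algHom {B : Type w} [DivisionRing B] [Algebra K B] (f : B →ₐ[K] A) :
    finrank K B ∣ finrank K A := by
  let _ : Module B A := Module.compHom A f.toRingHom
  have : IsScalarTower K B A := ⟨fun c b a => by
    change f (c • b) * a = c • (f b * a)
    rw [map_smul, smul_mul_assoc]⟩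
  exact ⟨finrank B A, (Module.finrank_mul_finrank K B A).symm⟩

theorem subalgebra_finrank_dvd (S : Subalgebra K A) : finrank K S ∣ finrank K A :=
  have : IsDomain S := inferInstanceAs (IsDomain S.toSubring)
  let _ : DivisionRing S := divisionRingOfFiniteDimensional K S
  finrank_dvd_of_algHom S.val

theorem subalgebra_finrank_dvd_of_le {S T : Subalgebra K A} (h : S ≤ T) :
    finrank K S ∣ finrank K T :=
  have : IsDomain S := inferInstanceAs (IsDomain S.toSubring)
  have : IsDomain T := inferInstanceAs (IsDomain T.toSubring)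
  let _ : DivisionRing S := divisionRingOfFiniteDimensional K S
  let _ : DivisionRing T := divisionRingOfFiniteDimensional K T
  finrank_dvd_of_algHom (Subalgebra.inclusion h)

theorem inv_mem_subalgebra (S : Subalgebra K A) {x : A} (hx : x ∈ S) : x⁻¹ ∈ S := by
  rcases eq_or_ne x 0 with rfl | h0
  · simp
  let f : S →ₗ[K] S :=
    { toFun := fun y => ⟨x, hx⟩ * y
      map_add' := mul_add _
      map_smul' := fun c y => mul_smul_comm c _ y }
  have hinj : Function.Injective f := fun a b hab => by
    have h' : x * (a : A) = x * b := congrArg Subtype.val hab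
    exact Subtype.ext (mul_left_cancel₀ h0 h')
  obtain ⟨y, hy⟩ := LinearMap.injective_iff_surjective.mp hinj 1
  have h1 : x * (y : A) = 1 := congrArg Subtype.val hy
  rw [inv_eq_of_mul_eq_one_right h1]
  exact y.2

variable {p : ℕ} [hp : Fact p.Prime]

/-- A commutative subalgebra generated by a non-scalar element has dimension `p`. -/
theorem finrank_adjoin_singleton [Algebra.IsCentral K A] (hA : finrank K A = p ^ 2) {z : A}
    (hz : z ∉ (algebraMap K A).range) : finrank K (Algebra.adjoin K {z}) = p := by
  obtain ⟨i, hi, he⟩ := (Nat.dvd_prime_pow hp.out).mp (hA ▸ subalgebra_finrank_dvd (Algebra.adjoin K {z}))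
  interval_cases i
  · refine absurd ?_ hz
    have hbot := Subalgebra.finrank_eq_one_iff.mp (he.trans (pow_zero p))
    have := hbot ▸ Algebra.self_mem_adjoin_singleton K z
    exact Algebra.mem_bot.mp this
  · simpa using he
  · have htop : Algebra.adjoin K {z} = ⊤ := by
      apply Subalgebra.toSubmodule_injective
      rw [Algebra.top_toSubmodule]
      exact Submodule.eq_top_of_finrank_eq (by rw [Subalgebra.finrank_toSubmodule, he, hA])
    refine absurd ?_ hz
    have hc : z ∈ Subalgebra.center K A := by
      rw [Subalgebra.mem_center_iff]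
      intro b
      exact ((Algebra.commute_of_mem_adjoin_self (htop ▸ Algebra.mem_top : b ∈ Algebra.adjoin K {z})).symm).eq
    obtain ⟨c, hc⟩ := (Algebra.IsCentral.mem_center_iff K).mp hc
    exact ⟨c, hc.symm⟩

theorem natDegree_minpoly [Algebra.IsCentral K A] (hA : finrank K A = p ^ 2) {z : A}
    (hz : z ∉ (algebraMap K A).range) : (minpoly K z).natDegree = p := by
  rw [← finrank_adjoin_singleton hA hz, ← Subalgebra.finrank_toSubmodule]
  have hspan : Submodule.span K (Set.range fun i : Fin (minpoly K z).natDegree => z ^ (i : ℕ)) =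
      Subalgebra.toSubmodule (Algebra.adjoin K {z}) := by
    refine le_antisymm (Submodule.span_le.mpr ?_) fun y hy => ?_
    · rintro _ ⟨i, rfl⟩
      exact pow_mem (Algebra.self_mem_adjoin_singleton K z) _
    · rw [Subalgebra.mem_toSubmodule, Algebra.adjoin_singleton_eq_range_aeval] at hy
      obtain ⟨P, rfl⟩ := hy
      have hm := minpoly.monic (IsIntegral.of_finite K z)
      have hmod : aeval z P = aeval z (P %ₘ minpoly K z) := by
        conv_lhs => rw [← modByMonic_add_div P (minpoly K z)]
        simp
      change aeval z P ∈ _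
      rw [hmod]
      have hlt : (P %ₘ minpoly K z).natDegree < (minpoly K z).natDegree :=
        natDegree_modByMonic_lt P hm (minpoly.ne_one K z)
      rw [aeval_eq_sum_range' hlt, Finset.sum_range]
      exact Submodule.sum_mem _ fun i _ =>
        Submodule.smul_mem _ _ (Submodule.subset_span ⟨i, rfl⟩)
  rw [← hspan, finrank_span_eq_card (linearIndependent_pow z), Fintype.card_fin]

/-- Two non-commuting elements generate an algebra of degree `p`. -/
theorem adjoin_pair_eq_top [Algebra.IsCentral K A] (hA : finrank K A = p ^ 2) {a b : A}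
    (h : a * b ≠ b * a) : Algebra.adjoin K {a, b} = ⊤ := by
  have ha : a ∉ (algebraMap K A).range := by
    rintro ⟨c, rfl⟩
    exact h (Algebra.commutes c b)
  have hle : Algebra.adjoin K {a} ≤ Algebra.adjoin K {a, b} := Algebra.adjoin_mono (by simp)
  obtain ⟨i, hi, he⟩ := (Nat.dvd_prime_pow hp.out).mp
    (hA ▸ subalgebra_finrank_dvd (Algebra.adjoin K {a, b}))
  have h1 := subalgebra_finrank_dvd_of_le hle
  rw [finrank_adjoin_singleton hA ha] at h1
  have hne : finrank K (Algebra.adjoin K {a, b}) ≠ p := by
    intro heq
    have := Subalgebra.eq_of_le_of_finrank_eq hle ((finrank_adjoin_singleton hA ha).trans heq.symm)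
    have hb : b ∈ Algebra.adjoin K {a} := this ▸ Algebra.subset_adjoin (by simp)
    exact h (Algebra.commute_of_mem_adjoin_self hb).eq
  interval_cases i
  · rw [he] at h1
    exact absurd (Nat.eq_one_of_dvd_one (by simpa using h1)) hp.out.ne_one
  · exact absurd (by simpa using he) hne
  · apply Subalgebra.toSubmodule_injective
    rw [Algebra.top_toSubmodule]
    exact Submodule.eq_top_of_finrank_eq (by rw [Subalgebra.finrank_toSubmodule, he, hA])

omit [FiniteDimensional K A] in
theorem mem_range_of_commute [Algebra.IsCentral K A] {s : Set A} (hs : Algebra.adjoin K s = ⊤)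
    {x : A} (hx : ∀ a ∈ s, Commute x a) : x ∈ (algebraMap K A).range := by
  have hc : x ∈ Subalgebra.center K A := by
    rw [Subalgebra.mem_center_iff]
    intro b
    exact (Algebra.commute_of_mem_adjoin_of_forall_mem_commute
      (hs ▸ Algebra.mem_top : b ∈ Algebra.adjoin K s) hx).symm.eq
  obtain ⟨c, hc⟩ := (Algebra.IsCentral.mem_center_iff K).mp hc
  exact ⟨c, hc.symm⟩

variable [CharP K p]

theorem not_isSeparable_of_pow_mem {v : A} (hv : v ∉ (algebraMap K A).range)
    (hvp : v ^ p ∈ (algebraMap K A).range) : ¬ IsSeparable K v := by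
  intro hsep
  obtain ⟨c, hc⟩ := hvp
  have hint : IsIntegral K v := IsIntegral.of_finite K v
  let Ω := AlgebraicClosure K
  have : CharP Ω p := charP_of_injective_algebraMap (algebraMap K Ω).injective p
  obtain ⟨r, hr⟩ := IsAlgClosed.exists_pow_nat_eq (algebraMap K Ω c) hp.out.pos
  have hdvd : minpoly K v ∣ X ^ p - C c := minpoly.dvd K v (by simp [hc])
  have hdvd' : (minpoly K v).map (algebraMap K Ω) ∣ (X - C r) ^ p := by
    rw [sub_pow_char_of_commute _ (Commute.all _ _), ← C_pow, hr]
    simpa using Polynomial.map_dvd (algebraMap K Ω) hdvd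
  obtain ⟨i, -, hi⟩ := (dvd_prime_pow (prime_X_sub_C r) _).mp hdvd'
  have hsq : Squarefree ((minpoly K v).map (algebraMap K Ω)) :=
    (Polynomial.Separable.map (f := algebraMap K Ω) hsep).squarefree
  have hi1 : i ≤ 1 := by
    by_contra hcon
    refine (prime_X_sub_C r).not_isUnit (hsq (X - C r) ?_)
    refine dvd_trans ?_ hi.symm.dvd
    rw [← pow_two]
    exact pow_dvd_pow _ (by omega)
  have hdeg : (minpoly K v).natDegree = i := by
    rw [← natDegree_map (algebraMap K Ω), natDegree_eq_of_degree_eq (degree_eq_degree_of_associated hi),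
      natDegree_pow, natDegree_X_sub_C, mul_one]
  have := minpoly.natDegree_pos hint
  exact hv (minpoly.natDegree_eq_one_iff.mp (by omega))

omit [FiniteDimensional K A] in
/-- `ad θ ^ p = ad (θ ^ p)`. -/
theorem ad_pow_char (θ y : A) :
    ((LinearMap.mulLeft K θ - LinearMap.mulRight K θ) ^ p) y = θ ^ p * y - y * θ ^ p := by
  have : CharP (Module.End K A) p :=
    charP_of_injective_algebraMap (algebraMap K (Module.End K A)).injective p
  rw [sub_pow_char_of_commute _ (LinearMap.commute_mulLeft_right θ θ), LinearMap.pow_mulLeft,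
    LinearMap.pow_mulRight]
  rfl

omit [DivisionRing A] [FiniteDimensional K A] in
/-- An endomorphism killed by `X^p - X` has an eigenvector with eigenvalue in the prime field. -/
theorem exists_eigen {V : Type w} [AddCommGroup V] [Module K V] (f : Module.End K V)
    (hf : ∀ x, (f ^ p) x = f x) (h0 : f ≠ 0) :
    ∃ (j : K) (x : V), j ≠ 0 ∧ x ≠ 0 ∧ f x = j • x := by
  have key : ∀ (s : Finset (ZMod p)) (w : V), w ≠ 0 →
      aeval f (∏ a ∈ s, (X - C (ZMod.castHom dvd_rfl K a))) w = 0 →
      ∃ a ∈ s, ∃ x : V, x ≠ 0 ∧ f x = (ZMod.castHom dvd_rfl K a) • x := by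
    intro s
    induction s using Finset.induction_on with
    | empty => intro w hw h; simp at h; exact absurd h hw
    | insert a s has ih =>
      intro w hw h
      rw [Finset.prod_insert has, map_mul, Module.End.mul_apply] at h
      by_cases h' : aeval f (∏ a ∈ s, (X - C (ZMod.castHom dvd_rfl K a))) w = 0
      · obtain ⟨b, hb, x, hx⟩ := ih w hw h'
        exact ⟨b, Finset.mem_insert_of_mem hb, x, hx⟩
      · refine ⟨a, Finset.mem_insert_self _ _, _, h', ?_⟩
        simpa [sub_eq_zero, Module.algebraMap_end_apply] using h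
  have hprod : X * ∏ a ∈ Finset.univ.erase (0 : ZMod p), (X - C (ZMod.castHom dvd_rfl K a))
      = X ^ p - X := by
    have h1 : (∏ a : ZMod p, (X - C a)) = X ^ p - X := by
      have := Polynomial.prod_multiset_X_sub_C_of_monic_of_roots_card_eq
        (p := (X ^ p - X : (ZMod p)[X])) (monic_X_pow_sub (by simp [hp.out.one_lt]))
        (by
          have := FiniteField.roots_X_pow_card_sub_X (ZMod p)
          rw [ZMod.card p] at this
          rw [this, FiniteField.X_pow_card_sub_X_natDegree_eq _ hp.out.one_lt]
          simp)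
      have h2 := FiniteField.roots_X_pow_card_sub_X (ZMod p)
      rw [ZMod.card p] at h2
      rwa [h2] at this
    rw [← Finset.mul_prod_erase _ _ (Finset.mem_univ (0 : ZMod p))] at h1
    have := congrArg (Polynomial.map (ZMod.castHom dvd_rfl K)) h1
    simpa [Polynomial.map_prod] using this
  obtain ⟨y, hy⟩ : ∃ y, f y ≠ 0 := by
    by_contra! h
    exact h0 (LinearMap.ext fun y => by simpa using h y)
  have hkill : aeval f (∏ a ∈ Finset.univ.erase (0 : ZMod p),
      (X - C (ZMod.castHom dvd_rfl K a))) (f y) = 0 := by
    have h := congrArg (fun P => aeval f P y) ((mul_comm _ _).trans hprod)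
    simp only [map_mul, aeval_X, Module.End.mul_apply, map_sub, map_pow, LinearMap.sub_apply, hf,
      sub_self] at h
    exact h
  obtain ⟨a, ha, x, hx, hfx⟩ := key _ _ hy hkill
  refine ⟨_, x, ?_, hx, hfx⟩
  intro h
  exact Finset.ne_of_mem_erase ha ((ZMod.castHom dvd_rfl K).injective (h.trans (map_zero _).symm))

end

end Groth.Agent.DivAlgP96
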