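import Groth.Agent.DivAlgP96.Trace
import Mathlib.LinearAlgebra.Dual.Lemmas

/-!
# Degree two and three
-/

set_option autoImplicit false
open Polynomial Module

namespace Groth.Agent.DivAlgP96

universe u v

theorem exists_inseparable_two_three {K : Type u} [Field K] {A : Type v} [DivisionRing A]
    [Algebra K A] [FiniteDimensional K A] [Algebra.IsCentral K A] {p : ℕ} [hp : Fact p.Prime]
    [CharP K p] (hA : finrank K A = p ^ 2) (h23 : p = 2 ∨ p = 3) :
    ∃ v : A, ¬ IsSeparable K v := by
  obtain ⟨T, hT0, hT⟩ := exists_traceFn (p := p) hA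
  have hint : ∀ z : A, IsIntegral K z := IsIntegral.of_finite K
  rcases h23 with rfl | rfl
  · have hker : 3 ≤ finrank K (LinearMap.ker T) := by
      have h1 := LinearMap.finrank_range_add_finrank_ker T
      have h2 : finrank K (LinearMap.range T) ≤ 1 := by simpa using Submodule.finrank_le (LinearMap.range T)
      omega
    obtain ⟨z, hz, hz'⟩ : ∃ z, z ∈ LinearMap.ker T ∧ z ∉ (algebraMap K A).range := by
      by_contra! h
      have hle : LinearMap.ker T ≤ LinearMap.range (Algebra.linearMap K A) := fun x hx => by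
        simpa using h x hx
      have := Submodule.finrank_mono hle
      have h4 := LinearMap.finrank_range_le (Algebra.linearMap K A)
      rw [finrank_self] at h4
      omega
    refine ⟨z, not_isSeparable_of_pow_mem (p := 2) hz' ⟨-(minpoly K z).coeff 0, ?_⟩⟩
    have h := minpoly.aeval K z
    have hd := natDegree_minpoly hA hz'
    have hm := (minpoly.monic (hint z)).coeff_natDegree
    rw [hd] at hm
    have hc := hT z hz'
    rw [LinearMap.mem_ker.mp hz, neg_zero] at hc
    rw [aeval_eq_sum_range, hd] at h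
    simp [Finset.sum_range_succ, hm, hc] at h
    rw [map_neg, Algebra.algebraMap_eq_smul_one, eq_comm, ← add_eq_zero_iff_eq_neg', ]
    exact h
  · obtain ⟨x, hx⟩ : ∃ x : A, x ∉ (algebraMap K A).range := by
      by_contra! h
      have hle : (⊤ : Submodule K A) ≤ LinearMap.range (Algebra.linearMap K A) := fun x _ => by
        simpa using h x
      have := Submodule.finrank_mono hle
      have h4 := LinearMap.finrank_range_le (Algebra.linearMap K A)
      rw [finrank_top, hA] at this
      rw [finrank_self] at h4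
      omega
    set L := Algebra.adjoin K {x}
    have hL : finrank K L = 3 := finrank_adjoin_singleton hA hx
    let Φ : A →ₗ[K] Module.Dual K L :=
      (LinearMap.lcomp K K L.toSubmodule.subtype) ∘ₗ
        (LinearMap.llcomp K A A K T) ∘ₗ (LinearMap.mul K A)
    have hΦ : ∀ w (l : L), Φ w l = T (w * l) := fun w l => rfl
    obtain ⟨w, hw, hwL⟩ : ∃ w, w ∈ LinearMap.ker Φ ∧ w ∉ L := by
      by_contra! h
      have h1 := LinearMap.finrank_range_add_finrank_ker Φ
      have h2 : finrank K (LinearMap.range Φ) ≤ 3 :=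
        (Submodule.finrank_le _).trans (by rw [Subspace.dual_finrank_eq, hL])
      have h3 : finrank K (LinearMap.ker Φ) ≤ 3 := by
        rw [← hL, ← Subalgebra.finrank_toSubmodule]
        exact Submodule.finrank_mono h
      omega
    have hw0 : w ≠ 0 := fun h => hwL (h ▸ zero_mem L)
    let g : L →ₗ[K] K := T ∘ₗ (LinearMap.mulRight K w⁻¹) ∘ₗ L.toSubmodule.subtype
    obtain ⟨m, hm, hm0⟩ : ∃ m : L, g m = 0 ∧ m ≠ 0 := by
      by_contra! h
      have hinj : Function.Injective g := (injective_iff_map_eq_zero g).mpr h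
      have := LinearMap.finrank_le_finrank_of_injective hinj
      rw [finrank_self] at this
      omega
    have hm0' : (m : A) ≠ 0 := fun h => hm0 (Subtype.ext h)
    set z := w * (m : A)⁻¹
    have hz0 : z ≠ 0 := mul_ne_zero hw0 (inv_ne_zero hm0')
    have hz : z ∉ (algebraMap K A).range := by
      rintro ⟨c, hc⟩
      apply hwL
      have : w = algebraMap K A c * m := by rw [hc]; simp [z, hm0']
      exact this ▸ mul_mem (L.algebraMap_mem c) m.2
    have hzi : z⁻¹ ∉ (algebraMap K A).range := fun ⟨c, hc⟩ =>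
      hz ⟨c⁻¹, by rw [map_inv₀, hc, inv_inv]⟩
    have hTz : T z = 0 := by
      have := LinearMap.congr_fun (LinearMap.mem_ker.mp hw) ⟨(m : A)⁻¹, inv_mem_subalgebra L m.2⟩
      exact this
    have hTzi : T z⁻¹ = 0 := by
      have : z⁻¹ = (m : A) * w⁻¹ := by simp [z]
      rw [this]
      exact hm
    have hd := natDegree_minpoly hA hz
    have hdi := natDegree_minpoly hA hzi
    have hm3 := (minpoly.monic (hint z)).coeff_natDegree
    rw [hd] at hm3
    have h2 : (minpoly K z).coeff 2 = 0 := by simpa [hTz] using hT z hz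
    have h := minpoly.aeval K z
    rw [aeval_eq_sum_range, hd] at h
    simp [Finset.sum_range_succ, hm3, h2] at h
    set a := (minpoly K z).coeff 0
    set b := (minpoly K z).coeff 1
    have ha : a ≠ 0 := minpoly.coeff_zero_ne_zero (hint z) hz0
    have hpoly : aeval z⁻¹ (X ^ 3 + C (a⁻¹ * b) * X ^ 2 + C a⁻¹) = 0 := by
      simp only [map_add, map_mul, map_pow, aeval_X, aeval_C]
      have h' : algebraMap K A a + algebraMap K A b * z + z ^ 3 = 0 := by
        rw [← h, Algebra.algebraMap_eq_smul_one, ← Algebra.smul_def]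
      have hC : ∀ c : K, Commute (algebraMap K A c) z⁻¹ := fun c => Algebra.commute_algebraMap_left c _
      have : algebraMap K A a⁻¹ *
          ((algebraMap K A a + algebraMap K A b * z + z ^ 3) * (z⁻¹) ^ 3) = 0 := by
        rw [h', zero_mul, mul_zero]
      have e3 : z ^ 3 * z⁻¹ ^ 3 = 1 := by rw [inv_pow, mul_inv_cancel₀ (pow_ne_zero 3 hz0)]
      have e1 : z * z⁻¹ ^ 3 = z⁻¹ ^ 2 := by rw [pow_succ' _ 2, ← mul_assoc, mul_inv_cancel₀ hz0, one_mul]
      have e0 : algebraMap K A a⁻¹ * algebraMap K A a = 1 := by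
        rw [← map_mul, inv_mul_cancel₀ ha, map_one]
      rw [← this, add_mul, add_mul, mul_assoc (algebraMap K A b), e1, e3, mul_add, mul_add,
        ← mul_assoc, ← mul_assoc, e0, one_mul, mul_one]
    have hμ : minpoly K z⁻¹ = X ^ 3 + C (a⁻¹ * b) * X ^ 2 + C a⁻¹ := by
      refine (eq_of_monic_of_dvd_of_natDegree_le (minpoly.monic (hint _)) (by monicity!)
        (minpoly.dvd K _ hpoly) ?_).symm
      rw [hdi]
      compute_degree
    have hb : b = 0 := by
      have := hT _ hzi
      rw [hμ, hTzi, neg_zero] at this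
      rw [coeff_add, coeff_add, coeff_X_pow, coeff_C_mul_X_pow, coeff_C] at this
      simpa [ha] using this
    refine ⟨z, not_isSeparable_of_pow_mem (p := 3) hz ⟨-a, ?_⟩⟩
    rw [hb] at h
    simp at h
    rw [map_neg, Algebra.algebraMap_eq_smul_one, eq_comm, ← add_eq_zero_iff_eq_neg']
    exact h

end Groth.Agent.DivAlgP96
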