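import Groth.Agent.DivAlgP96.Basic
import Mathlib.FieldTheory.Galois.Basic
import Mathlib.Tactic.Ring

/-!
# Cyclic and inseparable subfields in degree `p`
-/

set_option autoImplicit false
open Polynomial Module

namespace Groth.Agent.DivAlgP96

universe u v w

variable {K : Type u} [Field K] {p : ℕ} [hp : Fact p.Prime] [CharP K p]

theorem exists_artinSchreier_gen {L : Type w} [Field L] [Algebra K L] [IsGalois K L]
    (hL : finrank K L = p) :
    ∃ θ : L, θ ∉ (algebraMap K L).range ∧ θ ^ p - θ ∈ (algebraMap K L).range := by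
  have : FiniteDimensional K L := Module.finite_of_finrank_pos (hL ▸ hp.out.pos)
  have hcard : Nat.card Gal(L/K) = p := (IsGalois.card_aut_eq_finrank K L).trans hL
  have : Finite Gal(L/K) := Nat.finite_of_card_ne_zero (hcard ▸ hp.out.ne_zero)
  obtain ⟨σ, hσ⟩ : ∃ σ : Gal(L/K), σ ≠ 1 := by
    have : Nontrivial Gal(L/K) := Finite.one_lt_card_iff_nontrivial.mp (hcard ▸ hp.out.one_lt)
    exact exists_ne 1
  have hgen : ∀ τ : Gal(L/K), τ ∈ Subgroup.zpowers σ := fun τ =>
    mem_zpowers_of_prime_card hcard hσ
  have hfix : ∀ x : L, σ x = x → x ∈ (algebraMap K L).range := by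
    intro x hx
    have := (IsGalois.mem_bot_iff_fixed (F := K) x).mpr fun τ => by
      have hmem : σ ∈ MulAction.stabilizer Gal(L/K) x := hx
      exact (Subgroup.zpowers_le.mpr hmem) (hgen τ)
    exact IntermediateField.mem_bot.mp this
  let s : Module.End K L := σ.toLinearMap
  have hspow : ∀ (i : ℕ) (x : L), (s ^ i) x = (σ ^ i) x := by
    intro i
    induction i with
    | zero => simp
    | succ i ih => intro x; rw [pow_succ', pow_succ', Module.End.mul_apply, ih]; rfl
  have : CharP (Module.End K L) p :=
    charP_of_injective_algebraMap (algebraMap K (Module.End K L)).injective p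
  have hnil : (s - 1) ^ p = 0 := by
    rw [sub_pow_char_of_commute _ (Commute.one_right _), one_pow, sub_eq_zero]
    ext x
    have : σ ^ p = 1 := by rw [← hcard]; exact pow_card_eq_one'
    rw [hspow, this]; rfl
  obtain ⟨z, hz⟩ : ∃ z, (s - 1) z ≠ 0 := by
    by_contra! h
    exact hσ (AlgEquiv.ext fun x => sub_eq_zero.mp (h x))
  classical
  have hex : ∃ m : ℕ, (((s - 1) ^ m : Module.End K L)) z = 0 := ⟨p, by rw [hnil]; rfl⟩
  obtain ⟨m, hm⟩ : ∃ m, Nat.find hex = m + 2 := by
    rcases h : Nat.find hex with _ | _ | m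
    · have := Nat.find_spec hex
      rw [h] at this
      exact absurd (by simp at this; simp [this]) hz
    · have := Nat.find_spec hex
      rw [h, pow_one] at this
      exact absurd this hz
    · exact ⟨m, rfl⟩
  have h2 := Nat.find_spec hex
  have h1 : (((s - 1) ^ (m + 1) : Module.End K L)) z ≠ 0 := Nat.find_min hex (by omega)
  rw [hm, pow_succ', Module.End.mul_apply] at h2
  obtain ⟨c, hc⟩ := hfix _ (sub_eq_zero.mp h2)
  set w := (((s - 1) ^ m : Module.End K L)) z
  rw [pow_succ', Module.End.mul_apply] at h1 hc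
  have hc' : σ w - w = algebraMap K L c := hc.symm
  have hc0 : c ≠ 0 := by
    rintro rfl
    exact h1 (by rw [← hc, map_zero])
  refine ⟨algebraMap K L c⁻¹ * w, ?_, hfix _ ?_⟩
  · rintro ⟨d, hd⟩
    have h := congrArg σ hd
    rw [σ.commutes, map_mul, σ.commutes, hd, sub_eq_iff_eq_add.mp hc'] at h
    rw [mul_add, ← map_mul, inv_mul_cancel₀ hc0, map_one] at h
    exact one_ne_zero (add_eq_right.mp h.symm)
  · have hθ : σ (algebraMap K L c⁻¹ * w) = algebraMap K L c⁻¹ * w + 1 := by
      rw [map_mul, σ.commutes, sub_eq_iff_eq_add.mp hc', mul_add, ← map_mul,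
        inv_mul_cancel₀ hc0, map_one, add_comm]
    have : CharP L p := charP_of_injective_algebraMap (algebraMap K L).injective p
    rw [map_sub, map_pow, hθ, add_pow_char, one_pow]
    ring

variable {A : Type v} [DivisionRing A] [Algebra K A] [FiniteDimensional K A]
  [Algebra.IsCentral K A]

omit [Algebra K A] [FiniteDimensional K A] [Algebra.IsCentral K A] in
theorem conj_mul {v : A} (hv : v ≠ 0) (a b : A) :
    v * (a * b) * v⁻¹ = v * a * v⁻¹ * (v * b * v⁻¹) := by
  simp [mul_assoc, hv]

theorem exists_inseparable_of_galois (hA : finrank K A = p ^ 2) {L : Type w} [Field L]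
    [Algebra K L] [IsGalois K L] (hL : finrank K L = p) (ι : L →ₐ[K] A) :
    ∃ v : A, ¬ IsSeparable K v := by
  obtain ⟨θ, hθ, a, ha⟩ := exists_artinSchreier_gen (K := K) (p := p) hL
  set t := ι θ
  have ht : t ∉ (algebraMap K A).range := by
    rintro ⟨c, hc⟩
    exact hθ ⟨c, ι.injective (by simpa [t] using hc)⟩
  have htp : t ^ p = t + algebraMap K A a := by
    rw [← ι.commutes a, ha, map_sub, map_pow]; simp [t]
  let f : Module.End K A := LinearMap.mulLeft K t - LinearMap.mulRight K t
  have hf : ∀ y, (f ^ p) y = f y := by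
    intro y
    rw [ad_pow_char, htp, add_mul, mul_add, Algebra.commutes]
    simp [f]
  have hf0 : f ≠ 0 := by
    intro h
    have hc : t ∈ Subalgebra.center K A := Subalgebra.mem_center_iff.mpr fun b =>
      (sub_eq_zero.mp (LinearMap.congr_fun h b)).symm
    obtain ⟨c, hc⟩ := (Algebra.IsCentral.mem_center_iff K).mp hc
    exact ht ⟨c, hc.symm⟩
  obtain ⟨j, x, hj, hx, hfx⟩ := exists_eigen (p := p) f hf hf0
  have hne : t * x ≠ x * t := fun h => smul_ne_zero hj hx (hfx ▸ sub_eq_zero.mpr h)
  have hcomm : ∀ i : ℕ, t * x ^ i = x ^ i * (t + algebraMap K A (i * j)) := by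
    intro i
    induction i with
    | zero => simp
    | succ i ih =>
      have h1 : t * x = x * (t + algebraMap K A j) := by
        rw [mul_add, ← Algebra.commutes, ← Algebra.smul_def, ← hfx]
        simp [f]
      rw [pow_succ, ← mul_assoc, ih, mul_assoc, add_mul, h1, Algebra.commutes (i * j : K) x,
        ← mul_add, ← mul_assoc, add_assoc, ← map_add, Nat.cast_succ, add_one_mul, add_comm j]
  refine ⟨x, not_isSeparable_of_pow_mem (p := p) ?_ ?_⟩
  · rintro ⟨c, rfl⟩
    exact hne (Algebra.commutes c t).symm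
  · refine mem_range_of_commute (adjoin_pair_eq_top hA hne) ?_
    intro b hb
    rcases hb with rfl | rfl
    · have := hcomm p
      rw [CharP.cast_eq_zero, zero_mul, map_zero, add_zero] at this
      exact this.symm
    · exact (Commute.refl _).pow_left _

theorem exists_galois_of_weyl (hA : finrank K A = p ^ 2) {v u : A} (hvu : v * u - u * v = 1) :
    ∃ (L : Type v) (_ : Field L) (_ : Algebra K L), IsGalois K L ∧ finrank K L = p ∧
      Nonempty (L →ₐ[K] A) := by
  set θ := v * u
  have hv0 : v ≠ 0 := by
    rintro rfl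
    simp [θ] at hvu
  have hθv : v * θ * v⁻¹ = θ + 1 := by
    rw [mul_inv_eq_iff_eq_mul₀ hv0, add_mul, one_mul]
    change v * (v * u) = v * u * v + v
    rw [← sub_eq_iff_eq_add', mul_assoc v u v, ← mul_sub, hvu, mul_one]
  have hθ : θ ∉ (algebraMap K A).range := by
    rintro ⟨c, hc⟩
    rw [← hc, ← Algebra.commutes, mul_assoc, mul_inv_cancel₀ hv0, mul_one] at hθv
    exact one_ne_zero (left_eq_add.mp hθv)
  set S := Algebra.adjoin K {θ}
  let _ : CommRing S := Algebra.adjoinCommRingOfComm K (by rintro a rfl b rfl; rfl)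
  have : IsDomain S := inferInstanceAs (IsDomain S.toSubring)
  let _ : Field S := fieldOfFiniteDimensional K S
  have hS : finrank K S = p := finrank_adjoin_singleton hA hθ
  have hmem : ∀ x ∈ S, v * x * v⁻¹ ∈ S := by
    intro x hx
    induction hx using Algebra.adjoin_induction with
    | mem y hy =>
      obtain rfl : y = θ := hy
      rw [hθv]
      exact add_mem (Algebra.self_mem_adjoin_singleton K θ) (one_mem S)
    | algebraMap r =>
      rw [← Algebra.commutes, mul_assoc, mul_inv_cancel₀ hv0, mul_one]
      exact S.algebraMap_mem r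
    | add a b _ _ ha hb => rw [mul_add, add_mul]; exact add_mem ha hb
    | mul a b _ _ ha hb =>
      rw [conj_mul hv0 a b]
      exact mul_mem ha hb
  let c : A →ₐ[K] A :=
    { toFun := fun x => v * x * v⁻¹
      map_one' := by simp [hv0]
      map_mul' := conj_mul hv0
      map_zero' := by simp
      map_add' := fun a b => by rw [mul_add, add_mul]
      commutes' := fun r => by
        rw [← Algebra.commutes, mul_assoc, mul_inv_cancel₀ hv0, mul_one] }
  let cS : S →ₐ[K] S := (c.comp S.val).codRestrict S fun x => hmem x.1 x.2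
  have hinj : Function.Injective cS.toLinearMap := cS.toRingHom.injective
  have hbij : Function.Bijective cS :=
    ⟨hinj, LinearMap.injective_iff_surjective.mp hinj⟩
  let σ : Gal(S/K) := AlgEquiv.ofBijective cS hbij
  let θS : S := ⟨θ, Algebra.self_mem_adjoin_singleton K θ⟩
  have hσ : ∀ i : ℕ, (σ ^ i) θS = θS + (i : S) := by
    intro i
    induction i with
    | zero => simp
    | succ i ih =>
      rw [pow_succ', AlgEquiv.mul_apply, ih, map_add, map_natCast, Nat.cast_succ,
        add_comm (i : S) 1, ← add_assoc]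
      congr 1
      exact Subtype.ext hθv
  have : CharP S p := charP_of_injective_algebraMap (algebraMap K S).injective p
  have : FiniteDimensional K S := inferInstance
  refine ⟨S, inferInstance, inferInstance, ?_, hS, ⟨S.val⟩⟩
  refine IsGalois.of_card_aut_eq_finrank K S (le_antisymm ?_ ?_)
  · rw [Nat.card_eq_fintype_card]
    exact AlgEquiv.card_le
  · rw [hS]
    have : Finite Gal(S/K) := inferInstance
    have hinj : Function.Injective fun i : Fin p => σ ^ (i : ℕ) := by
      intro i j hij
      have := congrArg (fun g : Gal(S/K) => g θS) hij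
      simp only [hσ, add_right_inj] at this
      exact Fin.ext (CharP.natCast_injOn_Iio S p i.2 j.2 this)
    simpa using Nat.card_le_card_of_injective _ hinj

theorem exists_weyl_of_inseparable (hA : finrank K A = p ^ 2) (h : ∃ v : A, ¬ IsSeparable K v) :
    ∃ v u : A, v ^ p ∈ (algebraMap K A).range ∧ u ^ p ∈ (algebraMap K A).range ∧
      v * u - u * v = 1 ∧ Algebra.adjoin K {v, u} = ⊤ := by
  obtain ⟨v, hsep⟩ := h
  have hv : v ∉ (algebraMap K A).range := by
    rintro ⟨c, rfl⟩
    exact hsep (isSeparable_algebraMap c)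
  have hvp : v ^ p ∈ (algebraMap K A).range := by
    have hirr := minpoly.irreducible (IsIntegral.of_finite K v)
    have hder : derivative (minpoly K v) = 0 := by
      by_contra h
      exact hsep ((separable_iff_derivative_ne_zero hirr).mpr h)
    have hexp := expand_contract p hder hp.out.ne_zero
    have hdeg := congrArg natDegree hexp
    rw [natDegree_expand, natDegree_minpoly hA hv] at hdeg
    have hd1 : (contract p (minpoly K v)).natDegree = 1 :=
      Nat.eq_of_mul_eq_mul_right hp.out.pos (hdeg.trans (one_mul p).symm)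
    obtain ⟨a, ha, b, hab⟩ := natDegree_eq_one.mp hd1
    have h0 := minpoly.aeval K v
    rw [← hexp, expand_aeval, ← hab] at h0
    simp only [map_add, map_mul, aeval_C, aeval_X] at h0
    refine ⟨-(a⁻¹ * b), ?_⟩
    have : algebraMap K A a⁻¹ * (algebraMap K A a * v ^ p + algebraMap K A b) = 0 := by
      rw [h0, mul_zero]
    rw [mul_add, ← mul_assoc, ← map_mul, inv_mul_cancel₀ ha, map_one, one_mul, ← map_mul] at this
    rw [map_neg]
    exact (eq_neg_of_add_eq_zero_left this).symm
  let f : Module.End K A := LinearMap.mulLeft K v - LinearMap.mulRight K v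
  have hfp : f ^ p = 0 := by
    obtain ⟨c, hc⟩ := hvp
    ext y
    rw [ad_pow_char, ← hc, Algebra.commutes]
    simp
  obtain ⟨z, hz⟩ : ∃ z, f z ≠ 0 := by
    by_contra! h
    have hc : v ∈ Subalgebra.center K A := Subalgebra.mem_center_iff.mpr fun b =>
      (sub_eq_zero.mp (h b)).symm
    obtain ⟨c, hc⟩ := (Algebra.IsCentral.mem_center_iff K).mp hc
    exact hv ⟨c, hc.symm⟩
  classical
  have hex : ∃ m : ℕ, (f ^ m) z = 0 := ⟨p, by rw [hfp]; rfl⟩
  obtain ⟨m, hm⟩ : ∃ m, Nat.find hex = m + 2 := by
    rcases h : Nat.find hex with _ | _ | m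
    · have := Nat.find_spec hex
      rw [h] at this
      exact absurd (by simp at this; simp [this]) hz
    · have := Nat.find_spec hex
      rw [h, pow_one] at this
      exact absurd this hz
    · exact ⟨m, rfl⟩
  have h2 := Nat.find_spec hex
  have h1 : (f ^ (m + 1)) z ≠ 0 := Nat.find_min hex (by omega)
  rw [hm, pow_succ', Module.End.mul_apply] at h2
  rw [pow_succ', Module.End.mul_apply] at h1
  set y := (f ^ m) z
  rw [pow_succ', Module.End.mul_apply] at h2
  set c := f y with hcdef
  have hc : Commute v c := sub_eq_zero.mp h2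
  have hvu : v * (y * c⁻¹) - (y * c⁻¹) * v = 1 := by
    rw [mul_assoc y, (hc.inv_right₀).symm.eq, ← mul_assoc, ← mul_assoc, ← sub_mul]
    exact mul_inv_cancel₀ h1
  set u := y * c⁻¹
  have hne : v * u ≠ u * v := fun h => one_ne_zero (hvu.symm.trans (sub_eq_zero.mpr h))
  have htop := adjoin_pair_eq_top hA hne
  refine ⟨v, u, hvp, mem_range_of_commute htop ?_, hvu, htop⟩
  intro b hb
  rcases hb with rfl | rfl
  · let g : Module.End K A := LinearMap.mulLeft K u - LinearMap.mulRight K u
    have hg1 : g 1 = 0 := by simp [g]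
    have hgv : g b = -1 := by
      rw [← hvu]; simp [g]
    have hgp : (g ^ p) b = 0 := by
      obtain ⟨q, hq⟩ := Nat.exists_eq_add_of_le hp.out.two_le
      rw [hq, add_comm, pow_add, Module.End.mul_apply, pow_two, Module.End.mul_apply, hgv,
        map_neg, hg1, neg_zero, map_zero]
    rw [ad_pow_char] at hgp
    exact sub_eq_zero.mp hgp
  · exact (Commute.refl _).pow_left _

end Groth.Agent.DivAlgP96
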