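import Groth.Agent.DivAlgP96.Basic
import Groth.Agent.Csa25.Basic
import Mathlib.RingTheory.SimpleModule.IsAlgClosed
import Mathlib.LinearAlgebra.Matrix.Charpoly.Coeff
import Mathlib.RingTheory.Flat.Basic

/-!
# A trace functional on a division algebra of prime degree
-/

set_option autoImplicit false
open Polynomial Module
open scoped TensorProduct

namespace Groth.Agent.DivAlgP96

universe u v

theorem exists_traceFn {K : Type u} [Field K] {A : Type v} [DivisionRing A] [Algebra K A]
    [FiniteDimensional K A] [Algebra.IsCentral K A] {p : ℕ} [hp : Fact p.Prime] [CharP K p]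
    (hA : finrank K A = p ^ 2) :
    ∃ T : A →ₗ[K] K, (∀ c : K, T (algebraMap K A c) = 0) ∧
      ∀ z : A, z ∉ (algebraMap K A).range → (minpoly K z).coeff (p - 1) = - T z := by
  let Ω := AlgebraicClosure K
  have : IsSimpleRing (A ⊗[K] Ω) := Csa25.isSimpleRing_tensor
  have : IsSimpleRing (Ω ⊗[K] A) :=
    .of_ringEquiv (Algebra.TensorProduct.comm K A Ω).toRingEquiv this
  obtain ⟨n, hn, ⟨e⟩⟩ := IsSimpleRing.exists_algEquiv_matrix_of_isAlgClosed Ω (Ω ⊗[K] A)
  have hnp : n = p := by
    have h := e.toLinearEquiv.finrank_eq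
    rw [Module.finrank_baseChange, hA, Module.finrank_matrix, Fintype.card_fin, finrank_self,
      mul_one, ← pow_two] at h
    exact (Nat.pow_left_injective two_ne_zero h).symm
  subst hnp
  let φ : A →ₗ[K] Matrix (Fin n) (Fin n) Ω :=
    (e.toLinearMap.restrictScalars K) ∘ₗ (TensorProduct.mk K Ω A 1)
  let T0 : A →ₗ[K] Ω := (Matrix.traceLinearMap (Fin n) Ω Ω).restrictScalars K ∘ₗ φ
  obtain ⟨r, hr⟩ := (Algebra.linearMap K Ω).exists_leftInverse_of_injective
    (LinearMap.ker_eq_bot.mpr (algebraMap K Ω).injective)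
  have hr' : ∀ c, r (algebraMap K Ω c) = c := fun c => LinearMap.congr_fun hr c
  refine ⟨r ∘ₗ T0, fun c => ?_, fun z hz => ?_⟩
  · have h1 : T0 1 = (n : Ω) := by
      simp [T0, φ, ← Algebra.TensorProduct.one_def]
    have : (r ∘ₗ T0) (1 : A) = 0 := by
      rw [LinearMap.comp_apply, h1, ← map_natCast (algebraMap K Ω), hr', CharP.cast_eq_zero]
    rw [Algebra.algebraMap_eq_smul_one, map_smul, this, smul_zero]
  · let x : Ω ⊗[K] A := Algebra.TensorProduct.includeRight z
    have hm := minpoly.monic (IsIntegral.of_finite K z)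
    let P := (minpoly K z).map (algebraMap K Ω)
    have hPdeg : P.natDegree = n := by
      rw [natDegree_map, natDegree_minpoly hA hz]
    have hP0 : aeval (e x) P = 0 := by
      rw [aeval_algEquiv, AlgHom.comp_apply, aeval_map_algebraMap, aeval_algHom_apply, minpoly.aeval, map_zero, map_zero]
    have hind : LinearIndependent Ω fun i : Fin (minpoly K z).natDegree => x ^ (i : ℕ) := by
      have := Module.Flat.linearIndependent_one_tmul (S := Ω) (linearIndependent_pow (K := K) z)
      simpa [x, Algebra.TensorProduct.includeRight_apply, Algebra.TensorProduct.tmul_pow] using this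
    have hdeg : n ≤ (minpoly Ω (e x)).natDegree := by
      rw [minpoly.algEquiv_eq e x]
      by_contra hlt
      push Not at hlt
      have hne := minpoly.ne_zero (IsIntegral.of_finite Ω x)
      have h0 : aeval x (minpoly Ω x) = 0 := minpoly.aeval Ω x
      rw [aeval_eq_sum_range' (n := (minpoly K z).natDegree) (by rw [natDegree_minpoly hA hz]; exact hlt),
        Finset.sum_range] at h0
      have := Fintype.linearIndependent_iff.mp hind _ h0 ⟨(minpoly Ω x).natDegree, by
        rw [natDegree_minpoly hA hz]; exact hlt⟩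
      exact hne (leadingCoeff_eq_zero.mp this)
    have hμ := minpoly.monic (IsIntegral.of_finite Ω (e x))
    have e1 : P = minpoly Ω (e x) := eq_of_monic_of_dvd_of_natDegree_le hμ (hm.map _)
      (minpoly.dvd Ω _ hP0) (by omega)
    have e2 : (e x).charpoly = minpoly Ω (e x) := eq_of_monic_of_dvd_of_natDegree_le hμ
      (Matrix.charpoly_monic _) (minpoly.dvd Ω _ (Matrix.aeval_self_charpoly _))
      (by rw [Matrix.charpoly_natDegree_eq_dim, Fintype.card_fin]; exact hdeg)
    have : T0 z = - algebraMap K Ω ((minpoly K z).coeff (n - 1)) := by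
      have htr := Matrix.trace_eq_neg_charpoly_coeff (e x)
      rw [e2, ← e1, Fintype.card_fin, coeff_map] at htr
      exact htr
    rw [LinearMap.comp_apply, this, map_neg, hr', neg_neg]

end Groth.Agent.DivAlgP96
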